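import Mathlib
import Groth.Prelude.Def_Conn

/-! helper7: covariant derivative of a connection on a free module in terms of its connection matrix (S16793). -/

set_option linter.style.haveILetI false
set_option linter.unusedVariables false
set_option linter.unusedSectionVars false

open TensorProduct

namespace Groth.Agent.Helper7.ConnMat

universe v u

theorem main {A : Type v} {B : Type u} [CommRing A] [CommRing B] [Algebra A B]
    (bΩ : Module.Basis (Fin 1) B (KaehlerDifferential A B)) {r : ℕ} (T : Matrix (Fin r) (Fin r) B)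
    (nabla : (Fin r → B) →ₗ[A] (Fin r → B) ⊗[B] KaehlerDifferential A B)
    (hc : Conn.IsConn (KaehlerDifferential.D A B) nabla)
    (hT : ∀ j : Fin r, nabla (Pi.single j 1) = ∑ i : Fin r, T i j • (Pi.single i (1 : B) ⊗ₜ[B] bΩ 0))
    (θ : Derivation A B B) (s : Fin r → B) :
    Conn.alongDer nabla θ s = θ.liftKaehlerDifferential (bΩ 0) • T.mulVec s + (fun i => θ (s i)) := by
  have hs : s = ∑ j, s j • (Pi.single j (1:B) : Fin r → B) := by
    ext i
    simp [Finset.sum_apply, Pi.single_apply]
  have key : ∀ j, Conn.alongDer nabla θ (s j • (Pi.single j (1:B) : Fin r → B)) =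
      (s j * θ.liftKaehlerDifferential (bΩ 0)) • (fun i => T i j) +
        θ (s j) • (Pi.single j (1:B) : Fin r → B) := by
    intro j
    rw [Conn.alongDer, Conn.along_apply, hc, hT, map_add, map_add, map_smul, map_smul, map_sum,
      map_sum, TensorProduct.map_tmul, TensorProduct.rid_tmul, LinearMap.id_apply,
      Derivation.liftKaehlerDifferential_comp_D]
    congr 1
    rw [mul_smul]
    congr 1
    have h1 : ∀ x : Fin r, (TensorProduct.rid B (Fin r → B))
        ((map LinearMap.id θ.liftKaehlerDifferential)
          (T x j • (Pi.single x (1:B) : Fin r → B) ⊗ₜ[B] bΩ 0)) =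
        (θ.liftKaehlerDifferential (bΩ 0) * T x j) • (Pi.single x (1:B) : Fin r → B) := by
      intro x
      rw [map_smul, map_smul, TensorProduct.map_tmul, TensorProduct.rid_tmul, LinearMap.id_apply,
        smul_smul, mul_comm]
    simp_rw [h1]
    ext i
    rw [Finset.sum_apply, Pi.smul_apply, smul_eq_mul]
    simp only [Pi.smul_apply, Pi.single_apply, smul_eq_mul, mul_ite, mul_one, mul_zero]
    rw [Finset.sum_ite_eq]
    simp
  conv_lhs => rw [hs]
  rw [map_sum]
  simp_rw [key]
  ext i
  rw [Finset.sum_apply, Pi.add_apply, Pi.smul_apply, smul_eq_mul]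
  simp only [Pi.add_apply, Pi.smul_apply, smul_eq_mul, Pi.single_apply, mul_ite, mul_one, mul_zero]
  rw [Finset.sum_add_distrib, Finset.sum_ite_eq]
  simp only [Finset.mem_univ, if_true]
  congr 1
  rw [Matrix.mulVec, dotProduct, Finset.mul_sum]
  refine Finset.sum_congr rfl (fun j _ => ?_)
  ring

end Groth.Agent.Helper7.ConnMat
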